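import Mathlib

/-!
Traces from a cyclic group of prime-power order in the endomorphisms of a module over a field of that characteristic:
they lie in a high power of the augmentation.
-/

set_option autoImplicit false
set_option linter.unusedVariables false
set_option linter.unusedSectionVars false
set_option linter.style.haveILetI false
set_option linter.flexible false

namespace Cfsg.Lib.Blocks.TICyclic

open Polynomial LinearMap

variable {F V : Type*} [Field F] [AddCommGroup V] [Module F V] {p : ℕ} [Fact p.Prime] [CharP F p]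

/-- The sum of the first `p ^ k` powers is a power of `a - 1`. -/
theorem geom_sum_char (A : Type*) [Ring A] [Algebra F A] (a : A) (k : ℕ) :
    ∑ i ∈ Finset.range (p ^ k), a ^ i = (a - 1) ^ (p ^ k - 1) := by
  haveI : CharP F[X] p := inferInstance
  have hpos : 1 ≤ p ^ k := Nat.one_le_pow _ _ (Fact.out : p.Prime).pos
  have h : ∑ i ∈ Finset.range (p ^ k), (X : F[X]) ^ i = (X - 1) ^ (p ^ k - 1) := by
    have hne : (X - 1 : F[X]) ≠ 0 := X_sub_C_ne_zero 1
    refine mul_right_cancel₀ hne ?_
    rw [geom_sum_mul, ← pow_succ, Nat.sub_add_cancel hpos, sub_pow_char_pow, one_pow]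
  simpa using congrArg (aeval a) h

/-- The range of a power of a difference of left and right multiplications. -/
theorem range_pow_sub_le (t φ : Module.End F V) {D M : ℕ} (hD : t ^ D = 0) :
    LinearMap.range (((mulLeft F t - mulRight F t) ^ M) φ) ≤ LinearMap.range (t ^ (M + 1 - D)) := by
  have hc : Commute (mulLeft F t : Module.End F (Module.End F V)) (-mulRight F t) :=
    (commute_mulLeft_right (R := F) t t).neg_right
  rw [sub_eq_add_neg, hc.add_pow]
  simp only [LinearMap.sum_apply]
  rintro _ ⟨v, rfl⟩
  rw [LinearMap.sum_apply]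
  refine Submodule.sum_mem _ fun j hj => ?_
  rw [pow_mulLeft, neg_pow (mulRight F t : Module.End F (Module.End F V)), pow_mulRight]
  have hj' := Finset.mem_range.mp hj
  rcases lt_or_ge j (M + 1 - D) with h | h
  · have h0 : t ^ (M - j) = 0 := pow_eq_zero_of_le (by omega) hD
    simp [h0]
  · refine ⟨(t ^ (j - (M + 1 - D))) ((((-1 : Module.End F (Module.End F V)) ^ (M - j) * mulRight F (t ^ (M - j))) *
      (M.choose j : Module.End F (Module.End F V))) φ v), ?_⟩
    rw [← Module.End.mul_apply (t ^ _) (t ^ _), ← pow_add, show M + 1 - D + (j - (M + 1 - D)) = j by omega]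
    simp [mul_assoc]

/-- A trace from a cyclic group of order `p ^ k` lies in a high power of the augmentation. -/
theorem range_trace_le {x x' : Module.End F V} (hx : x * x' = 1) (hx' : x' * x = 1) {k D : ℕ}
    (hxk : x ^ p ^ k = 1) (hD : (x - 1) ^ D = 0) (φ : Module.End F V) :
    LinearMap.range (∑ i ∈ Finset.range (p ^ k), x ^ i * φ * x' ^ i) ≤ LinearMap.range ((x - 1) ^ (p ^ k - D)) := by
  set L : Module.End F (Module.End F V) := mulLeft F x * mulRight F x' with hL
  have hLp : ∀ i : ℕ, (L ^ i) φ = x ^ i * φ * x' ^ i := fun i => by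
    rw [hL, (commute_mulLeft_right x x').mul_pow, pow_mulLeft, pow_mulRight, Module.End.mul_apply,
      mulRight_apply, mulLeft_apply, mul_assoc]
  have hsum : ∑ i ∈ Finset.range (p ^ k), x ^ i * φ * x' ^ i = ((L - 1) ^ (p ^ k - 1)) φ := by
    rw [← geom_sum_char (F := F) (p := p) _ L k, LinearMap.sum_apply]
    exact Finset.sum_congr rfl fun i _ => (hLp i).symm
  have e : L - 1 = (mulLeft F (x - 1) - mulRight F (x - 1)) * mulRight F x' := LinearMap.ext fun ψ => by
    simp only [hL, LinearMap.sub_apply, Module.End.mul_apply, mulRight_apply, mulLeft_apply, Module.End.one_apply]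
    simp only [mul_sub, sub_mul, mul_one, one_mul, mul_assoc, hx']
    abel
  have hc : Commute (mulLeft F (x - 1) - mulRight F (x - 1)) (mulRight F x') := by
    refine (commute_mulLeft_right (R := F) (x - 1) x').sub_left ?_
    show mulRight F (x - 1) * mulRight F x' = mulRight F x' * mulRight F (x - 1)
    rw [Module.End.mul_eq_comp, Module.End.mul_eq_comp, ← mulRight_mul, ← mulRight_mul]
    congr 1
    rw [mul_sub, sub_mul, hx, hx', mul_one, one_mul]
  rw [hsum, e, hc.mul_pow, Module.End.mul_apply]
  refine (range_pow_sub_le _ _ hD).trans (le_of_eq ?_)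
  have hpos : 1 ≤ p ^ k := Nat.one_le_pow _ _ (Fact.out : p.Prime).pos
  rw [Nat.sub_add_cancel hpos]

/-- An invariant sum over a free action of a cyclic group is a trace. -/
theorem exists_trace {Q : Type*} (s : Q → Q) {x x' : Module.End F V} {f : Q → Module.End F V}
    (hf : ∀ q, f (s q) = x * f q * x') {m : ℕ} (hm : 0 < m) (hs : ∀ q, s^[m] q = q) (S : Finset Q)
    (hS : ∀ q ∈ S, s q ∈ S) (hfree : ∀ q ∈ S, ∀ i, 0 < i → i < m → s^[i] q ≠ q) :
    ∃ φ, ∑ q ∈ S, f q = ∑ i ∈ Finset.range m, x ^ i * φ * x' ^ i := by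
  classical
  induction S using Finset.strongInduction with
  | _ S ih =>
  rcases S.eq_empty_or_nonempty with rfl | ⟨q, hq⟩
  · exact ⟨0, by simp⟩
  set O := (Finset.range m).image fun i => s^[i] q with hO
  have hOS : O ⊆ S := fun y hy => by
    obtain ⟨i, -, rfl⟩ := Finset.mem_image.mp hy
    clear hy
    induction i with
    | zero => exact hq
    | succ i ihi => rw [Function.iterate_succ_apply']; exact hS _ ihi
  have hiter : ∀ i, f (s^[i] q) = x ^ i * f q * x' ^ i := fun i => by
    induction i with
    | zero => simp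
    | succ i ihi => rw [Function.iterate_succ_apply', hf, ihi, pow_succ', pow_succ]; simp [mul_assoc]
  have hinj : Set.InjOn (fun i => s^[i] q) (Finset.range m : Set ℕ) := by
    have key : ∀ i j, i < j → j < m → s^[i] q ≠ s^[j] q := fun i j hij hj h => by
      have hqi : s^[i] q ∈ S := hOS (Finset.mem_image.mpr ⟨i, Finset.mem_range.mpr (by omega), rfl⟩)
      refine hfree _ hqi (j - i) (by omega) (by omega) ?_
      rw [← Function.iterate_add_apply, show j - i + i = j by omega, ← h]
    intro i hi j hj h
    simp only [Finset.coe_range, Set.mem_Iio] at hi hj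
    rcases lt_trichotomy i j with hlt | he | hgt
    · exact absurd h (key i j hlt hj)
    · exact he
    · exact absurd h.symm (key j i hgt hi)
  have hOinv : ∀ y, s y ∈ O → y ∈ O := fun y hy => by
    obtain ⟨i, hi, e⟩ := Finset.mem_image.mp hy
    have hback : ∀ z, s^[m - 1] (s z) = z := fun z => by
      rw [← Function.iterate_succ_apply, show (m - 1).succ = m by omega, hs]
    rw [← hback y, ← e, ← Function.iterate_add_apply]
    refine Finset.mem_image.mpr ⟨(m - 1 + i) % m, Finset.mem_range.mpr (Nat.mod_lt _ hm), ?_⟩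
    exact (Function.IsPeriodicPt.iterate_mod_apply (hs q) _)
  obtain ⟨φ, hφ⟩ := ih (S \ O) (by
      refine Finset.sdiff_ssubset hOS ⟨q, ?_⟩
      exact Finset.mem_image.mpr ⟨0, Finset.mem_range.mpr hm, rfl⟩)
    (fun y hy => Finset.mem_sdiff.mpr ⟨hS _ (Finset.mem_sdiff.mp hy).1, fun h => (Finset.mem_sdiff.mp hy).2 (hOinv _ h)⟩)
    (fun y hy => hfree y (Finset.mem_sdiff.mp hy).1)
  refine ⟨φ + f q, ?_⟩
  rw [← Finset.sum_sdiff hOS, hφ, hO, Finset.sum_image hinj, ← Finset.sum_add_distrib]
  exact Finset.sum_congr rfl fun i _ => by rw [hiter, mul_add, add_mul]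

end Cfsg.Lib.Blocks.TICyclic
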