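import Mathlib
import Cfsg.Agent.Blocks.TICyclic.Trace

/-!
Irreducible faithful representations in characteristic `p` of groups with a cyclic trivial-intersection Sylow
`p`-subgroup: the endomorphism `∏ (y - 1)`, over the conjugates `y` of a generator in the normaliser, has its trace
to the group equal to zero, so it lies in a high power of the augmentation of the Sylow subgroup.
-/

set_option autoImplicit false
set_option linter.unusedVariables false
set_option linter.unusedSectionVars false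
set_option linter.style.haveILetI false
set_option linter.flexible false

namespace Cfsg.Lib.Blocks.TICyclic

open Polynomial Subgroup

variable {G : Type*} [Group G] [Finite G] {p : ℕ} [Fact p.Prime]

theorem mem_sylow_of_pow {P : Sylow p G} {g : G} (hN : g ∈ normalizer ((P : Subgroup G) : Set G)) {a : ℕ}
    (hg : g ^ p ^ a = 1) : g ∈ (P : Subgroup G) := by
  have hz : IsPGroup p (zpowers g) := fun y => by
    obtain ⟨i, hi⟩ := Subgroup.mem_zpowers_iff.mp y.2
    refine ⟨a, Subtype.ext ?_⟩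
    rw [SubmonoidClass.coe_pow, ← hi, ← zpow_natCast, ← zpow_mul, mul_comm, zpow_mul, zpow_natCast, hg, one_zpow,
      OneMemClass.coe_one]
  have hle : zpowers g ≤ normalizer ((P : Subgroup G) : Set G) := Subgroup.zpowers_le.mpr hN
  have h := IsPGroup.to_sup_of_normal_right' hz P.2 hle
  rw [← P.3 h le_sup_right]
  exact Subgroup.mem_sup_left (mem_zpowers g)

/-- The exponents of the conjugates of a generator in the normaliser are distinct modulo `p`. -/
theorem conj_eq_of_mod {P : Sylow p G} {x : G} (hP : zpowers x = (P : Subgroup G)) {n : ℕ}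
    (hx : orderOf x = p ^ n) {h₁ h₂ : G} (hh₁ : h₁ ∈ normalizer ((P : Subgroup G) : Set G))
    (hh₂ : h₂ ∈ normalizer ((P : Subgroup G) : Set G)) {r₁ r₂ : ℕ} (e₁ : h₁ * x * h₁⁻¹ = x ^ r₁)
    (e₂ : h₂ * x * h₂⁻¹ = x ^ r₂) (hr₂ : ¬ p ∣ r₂) (hmod : r₁ ≡ r₂ [MOD p]) : x ^ r₁ = x ^ r₂ := by
  classical
  rcases Nat.eq_zero_or_pos n with rfl | hn
  · rw [pow_zero, orderOf_eq_one_iff] at hx; simp [hx]
  set h := h₂⁻¹ * h₁ with hh
  have hhN : h ∈ normalizer ((P : Subgroup G) : Set G) := mul_mem (inv_mem hh₂) hh₁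
  have hxP : x ∈ (P : Subgroup G) := hP ▸ mem_zpowers x
  obtain ⟨k, -, hk⟩ : ∃ k, k < orderOf x ∧ x ^ k = h * x * h⁻¹ := by
    have : h * x * h⁻¹ ∈ zpowers x := by rw [hP]; exact (Subgroup.mem_normalizer_iff.mp hhN x).mp hxP
    obtain ⟨k, hk⟩ := mem_zpowers_iff_mem_range_orderOf.mp this |> Finset.mem_image.mp
    exact ⟨k, Finset.mem_range.mp hk.1, hk.2⟩
  have hr : x ^ r₁ = x ^ (r₂ * k) := by
    rw [← e₁, pow_mul, ← e₂, conj_pow, hk, hh]; group
  have hk1 : k ≡ 1 [MOD p] := by
    have h1 : r₁ ≡ r₂ * k [MOD p] :=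
      (pow_eq_pow_iff_modEq.mp hr).of_dvd (by rw [hx]; exact dvd_pow_self p (by omega))
    have h2 : r₂ * k ≡ r₂ * 1 [MOD p] := by rw [mul_one]; exact h1.symm.trans hmod
    exact h2.cancel_left_of_coprime ((Fact.out : p.Prime).coprime_iff_not_dvd.mpr hr₂)
  have hpow : ∀ i : ℕ, h ^ i * x * (h ^ i)⁻¹ = x ^ k ^ i := fun i => by
    induction i with
    | zero => simp
    | succ i ih =>
      rw [pow_succ', pow_succ, show h * h ^ i * x * (h * h ^ i)⁻¹ = h * (h ^ i * x * (h ^ i)⁻¹) * h⁻¹ by group, ih,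
        ← conj_pow, ← hk, ← pow_mul, mul_comm]
  have hcA : h ^ p ^ n ∈ centralizer ({x} : Set G) := by
    rw [mem_centralizer_singleton_iff, ← mul_inv_eq_iff_eq_mul, hpow]
    nth_rewrite 2 [← pow_one x]
    rw [pow_eq_pow_iff_modEq, hx, Nat.modEq_iff_dvd]
    have hd : (p : ℤ) ∣ (k : ℤ) - 1 := by
      have := Nat.modEq_iff_dvd.mp hk1.symm; simpa using this
    have h3 := dvd_sub_pow_of_dvd_sub hd n
    rw [one_pow] at h3
    push_cast
    rw [← neg_sub, dvd_neg]
    exact (pow_dvd_pow _ (by omega)).trans h3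
  obtain ⟨a, m, hm, ham⟩ := Nat.exists_eq_pow_mul_and_not_dvd (orderOf_pos h).ne' p (Fact.out : p.Prime).ne_one
  have hcB : h ^ m ∈ centralizer ({x} : Set G) := by
    have : h ^ m ∈ (P : Subgroup G) := mem_sylow_of_pow (pow_mem hhN m) (a := a) (by
      rw [← pow_mul, mul_comm, ← ham, pow_orderOf_eq_one])
    rw [← hP, mem_zpowers_iff] at this
    obtain ⟨i, hi⟩ := this
    rw [mem_centralizer_singleton_iff, ← hi]
    exact ((Commute.refl x).zpow_left i).eq
  have hc : h ∈ centralizer ({x} : Set G) := by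
    have hg : Nat.gcd (p ^ n) m = 1 := ((Fact.out : p.Prime).coprime_iff_not_dvd.mpr hm).pow_left n
    have e : h = (h ^ p ^ n) ^ Nat.gcdA (p ^ n) m * (h ^ m) ^ Nat.gcdB (p ^ n) m := by
      rw [← zpow_natCast h (p ^ n), ← zpow_natCast h m, ← zpow_mul, ← zpow_mul, ← zpow_add, ← Nat.gcd_eq_gcd_ab, hg]
      simp
    rw [e]
    exact mul_mem (zpow_mem hcA _) (zpow_mem hcB _)
  rw [mem_centralizer_singleton_iff] at hc
  rw [← e₁, ← e₂, show h₁ * x * h₁⁻¹ = h₂ * (h * x * h⁻¹) * h₂⁻¹ by rw [hh]; group, hc, mul_inv_cancel_right]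

theorem isUnit_aeval {F A : Type*} [Field F] [Ring A] [Algebra F A] {a : A} (ha : IsNilpotent (a - 1)) {g : F[X]}
    (hg : g.eval 1 ≠ 0) : IsUnit (aeval a g) := by
  obtain ⟨g', hg'⟩ : X - C (1 : F) ∣ g - C (g.eval 1) := by rw [dvd_iff_isRoot]; simp
  rw [sub_eq_iff_eq_add] at hg'
  rw [hg', map_add, map_mul, map_sub, aeval_X, aeval_C, aeval_C, map_one]
  have hc : Commute (a - 1) (aeval a g') := by
    have := (Commute.all (X - C (1 : F)) g').map (aeval a)
    simpa using this
  exact (hc.isNilpotent_mul_right ha).isUnit_add_right_of_commute ((hg.isUnit).map _)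
    (Algebra.commutes _ _).symm

variable {F V : Type*} [Field F] [CharP F p] [AddCommGroup V] [Module F V] [FiniteDimensional F V]

/-- The dimension bound. -/
theorem finrank_ge (P : Sylow p G) (hcyc : IsCyclic P) {n : ℕ} (hn : 2 ≤ n) (hPn : Nat.card P = p ^ n)
    (hTI : ∀ Q : Sylow p G, Q ≠ P → (P : Subgroup G) ⊓ (Q : Subgroup G) = ⊥) (ρ : Representation F G V)
    (hfaith : Function.Injective ρ) (hirr : ρ.IsIrreducible) : p ^ n - (p - 1) ≤ Module.finrank F V := by
  classical
  haveI := Fintype.ofFinite G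
  have hp := (Fact.out : p.Prime)
  obtain ⟨x₀, hx₀⟩ := IsCyclic.exists_generator (α := P)
  set x : G := (x₀ : G) with hxdef
  have hP : zpowers x = (P : Subgroup G) := by
    refine le_antisymm (zpowers_le.mpr x₀.2) fun y hy => ?_
    obtain ⟨i, hi⟩ := mem_zpowers_iff.mp (hx₀ ⟨y, hy⟩)
    exact mem_zpowers_iff.mpr ⟨i, by have := congrArg Subtype.val hi; simpa using this⟩
  have hox : orderOf x = p ^ n := by rw [← Nat.card_zpowers, hP]; exact hPn
  haveI : Nontrivial V := by
    by_contra h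
    rw [not_nontrivial_iff_subsingleton] at h
    haveI : Subsingleton (Subrepresentation ρ) :=
      ⟨fun a b => Subrepresentation.toSubmodule_injective (Subsingleton.elim _ _)⟩
    haveI : IsSimpleOrder (Subrepresentation ρ) := hirr
    exact not_nontrivial (Subrepresentation ρ) inferInstance
  haveI : CharP (Module.End F V) p := (RingHom.charP_iff (algebraMap F (Module.End F V))
    (algebraMap F (Module.End F V)).injective p).mp inferInstance
  set A := ρ x with hA
  set t := A - 1 with ht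
  have hAN : A ^ p ^ n = 1 := by rw [hA, ← map_pow, ← hox, pow_orderOf_eq_one, map_one]
  have htN : t ^ p ^ n = 0 := by
    rw [ht, sub_pow_char_pow_of_commute p _ (Commute.one_right A), one_pow, hAN, sub_self]
  have hnil : IsNilpotent t := ⟨_, htN⟩
  set D := Nat.find hnil with hD
  have htD : t ^ D = 0 := Nat.find_spec hnil
  have hDdim : D ≤ Module.finrank F V := by
    refine Nat.find_min' hnil ?_
    have h := LinearMap.aeval_self_charpoly t
    rwa [hnil.charpoly_eq_X_pow_finrank, map_pow, aeval_X] at h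
  have hDbig : p ^ (n - 1) < D := by
    by_contra hle
    have h0 : t ^ p ^ (n - 1) = 0 := pow_eq_zero_of_le (not_lt.mp hle) htD
    rw [ht, sub_pow_char_pow_of_commute p _ (Commute.one_right A), one_pow, sub_eq_zero, hA, ← map_pow,
      ← map_one ρ] at h0
    have h1 := Nat.le_of_dvd (Nat.pow_pos hp.pos) (orderOf_dvd_of_pow_eq_one (hfaith h0))
    rw [hox] at h1
    have := Nat.pow_lt_pow_right hp.one_lt (show n - 1 < n by omega)
    omega
  set N := normalizer ((P : Subgroup G) : Set G) with hN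
  have hxP : x ∈ (P : Subgroup G) := x₀.2
  set Y := Finset.univ.filter fun y => ∃ h ∈ N, h * x * h⁻¹ = y with hY
  have hex : ∀ y, ∃ r : ℕ, y ∈ Y → x ^ r = y := by
    intro y
    by_cases hy : y ∈ Y
    · obtain ⟨h, hh, rfl⟩ := (Finset.mem_filter.mp hy).2
      have : h * x * h⁻¹ ∈ zpowers x := by rw [hP]; exact (mem_normalizer_iff.mp hh x).mp hxP
      obtain ⟨r, hr⟩ := mem_zpowers_iff_mem_range_orderOf.mp this |> Finset.mem_image.mp
      exact ⟨r, fun _ => hr.2⟩
    · exact ⟨0, fun h => absurd h hy⟩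
  choose r hr using hex
  have hrp : ∀ y ∈ Y, ¬ p ∣ r y := by
    intro y hy hd
    obtain ⟨h, hh, he⟩ := (Finset.mem_filter.mp hy).2
    have h1 : y ^ p ^ (n - 1) = 1 := by
      rw [← hr y hy, ← pow_mul]
      refine orderOf_dvd_iff_pow_eq_one.mp ?_
      rw [hox, show n = 1 + (n - 1) by omega, pow_add, pow_one, show 1 + (n - 1) - 1 = n - 1 by omega]
      exact Nat.mul_dvd_mul_right hd _
    rw [← he, conj_pow, conj_eq_one_iff] at h1
    have h2 := Nat.le_of_dvd (Nat.pow_pos hp.pos) (orderOf_dvd_of_pow_eq_one h1)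
    rw [hox] at h2
    have := Nat.pow_lt_pow_right hp.one_lt (show n - 1 < n by omega)
    omega
  set e := Y.card with he
  have hep : e ≤ p - 1 := by
    have h := Finset.card_le_card_of_injOn (fun y => r y % p) (s := Y) (t := Finset.Ioo 0 p) (fun y hy =>
      Finset.mem_coe.mpr (Finset.mem_Ioo.mpr ⟨Nat.pos_of_ne_zero fun h0 => hrp y hy (Nat.dvd_of_mod_eq_zero h0),
        Nat.mod_lt _ hp.pos⟩)) (fun y₁ hy₁ y₂ hy₂ heq => by
        obtain ⟨h₁, hh₁, e₁⟩ := (Finset.mem_filter.mp hy₁).2
        obtain ⟨h₂, hh₂, e₂⟩ := (Finset.mem_filter.mp hy₂).2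
        rw [← hr y₁ hy₁] at e₁
        rw [← hr y₂ hy₂] at e₂
        rw [← hr y₁ hy₁, ← hr y₂ hy₂]
        exact conj_eq_of_mod hP hox hh₁ hh₂ e₁ e₂ (hrp y₂ hy₂) heq)
    rwa [Nat.card_Ioo, Nat.sub_zero] at h
  have he1 : 1 ≤ e := Finset.card_pos.mpr ⟨x, Finset.mem_filter.mpr ⟨Finset.mem_univ _, 1, one_mem _, by simp⟩⟩
  -- the endomorphism
  let θ : Finset G → Module.End F V := fun S => aeval A (∏ y ∈ S, (X ^ r y - 1) : F[X])
  have hθi : ∀ {y S}, y ∈ Y → y ∉ S → θ (insert y S) = (ρ y - 1) * θ S := fun {y S} hy hyS => by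
    simp only [θ]
    rw [Finset.prod_insert hyS, map_mul, map_sub, map_pow, aeval_X, map_one, hA, ← map_pow, hr y hy]
  have hθc : ∀ h ∈ N, ρ h * θ Y = θ Y * ρ h := by
    intro h hh
    have hσ : ∀ y ∈ Y, h * y * h⁻¹ ∈ Y := fun y hy => by
      obtain ⟨g, hg, rfl⟩ := (Finset.mem_filter.mp hy).2
      exact Finset.mem_filter.mpr ⟨Finset.mem_univ _, h * g, mul_mem hh hg, by group⟩
    have hinj : Function.Injective fun y : G => h * y * h⁻¹ := fun a b hab => by simpa using hab
    have key : ∀ S ⊆ Y, ρ h * θ S = θ (S.image fun y => h * y * h⁻¹) * ρ h := by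
      intro S
      induction S using Finset.induction with
      | empty => intro _; simp [θ]
      | insert y S hyS ih =>
        intro hS
        rw [Finset.insert_subset_iff] at hS
        rw [Finset.image_insert, hθi hS.1 hyS, hθi (hσ y hS.1) (fun hm => by
          obtain ⟨y', hy', he'⟩ := Finset.mem_image.mp hm
          exact hyS (hinj he' ▸ hy')), mul_assoc, ← ih hS.2, ← mul_assoc, ← mul_assoc]
        congr 1
        rw [mul_sub, sub_mul, ← map_mul, ← map_mul, mul_one, one_mul, inv_mul_cancel_right]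
    rw [key Y (Finset.Subset.refl Y), Finset.eq_of_subset_of_card_le (Finset.image_subset_iff.mpr hσ)
      (Finset.card_image_of_injective Y hinj).ge]
  obtain ⟨u, hu, hθu⟩ : ∃ u, IsUnit u ∧ θ Y = t ^ e * u := by
    refine ⟨aeval A (∏ y ∈ Y, ∑ i ∈ Finset.range (r y), (X : F[X]) ^ i), isUnit_aeval hnil ?_, ?_⟩
    · rw [eval_prod, Finset.prod_ne_zero_iff]
      intro y hy
      rw [eval_finset_sum]
      simp only [eval_pow, eval_X, one_pow, Finset.sum_const, Finset.card_range, nsmul_one]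
      rw [Ne, CharP.cast_eq_zero_iff F p]
      exact hrp y hy
    · simp only [θ]
      rw [← Finset.prod_congr rfl (fun y _ => mul_geom_sum (X : F[X]) (r y)), Finset.prod_mul_distrib,
        Finset.prod_const, map_mul, map_pow, map_sub, aeval_X, map_one, ← ht, ← he]
  -- the trace to the group
  let c : G → Module.End F V := fun g => ρ g * θ Y * ρ g⁻¹
  have hone : ∀ g : G, ρ g * ρ g⁻¹ = 1 := fun g => by rw [← map_mul, mul_inv_cancel, map_one]
  have hone' : ∀ g : G, ρ g⁻¹ * ρ g = 1 := fun g => by rw [← map_mul, inv_mul_cancel, map_one]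
  have hcN : ∀ g, ∀ h ∈ N, c (g * h) = c g := fun g h hh => by
    simp only [c, map_mul, mul_inv_rev]
    rw [mul_assoc (ρ g) (ρ h), hθc h hh]
    simp only [mul_assoc]
    rw [← mul_assoc (ρ h), hone h, one_mul]
  let f : G ⧸ N → Module.End F V := Quotient.lift c fun g g' hgg' => by
    have h := QuotientGroup.leftRel_apply.mp hgg'
    rw [← hcN g _ h, mul_inv_cancel_left]
  have hfmk : ∀ g : G, f (g : G ⧸ N) = c g := fun g => rfl
  have hfs : ∀ (g : G) q, f (g • q) = ρ g * f q * ρ g⁻¹ := fun g q => by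
    obtain ⟨a, rfl⟩ := QuotientGroup.mk_surjective q
    rw [MulAction.Quotient.smul_mk, hfmk, hfmk, smul_eq_mul]
    simp only [c, map_mul, mul_inv_rev, mul_assoc]
  haveI := Fintype.ofFinite (G ⧸ N)
  set T := ∑ q, f q with hT
  have hTc : ∀ g, T * ρ g = ρ g * T := fun g => by
    have h : ρ g * T * ρ g⁻¹ = T := by
      rw [hT, Finset.mul_sum, Finset.sum_mul, Finset.sum_congr rfl fun q _ => (hfs g q).symm]
      exact Equiv.sum_comp (MulAction.toPerm g) f
    calc T * ρ g = ρ g * T * ρ g⁻¹ * ρ g := by rw [h]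
      _ = ρ g * T := by rw [mul_assoc, hone', mul_one]
  set q₀ : G ⧸ N := ((1 : G) : G ⧸ N) with hq₀
  have hiter : ∀ (i : ℕ) (q : G ⧸ N), (fun q => x • q)^[i] q = x ^ i • q := fun i q => smul_iterate_apply x i q
  obtain ⟨φ, hφ⟩ := exists_trace (fun q : G ⧸ N => x • q) (x := A) (x' := ρ x⁻¹) (f := f) (hfs x)
    (Nat.pow_pos (a := p) (n := n) hp.pos) (fun q => by rw [hiter, ← hox, pow_orderOf_eq_one, one_smul])
    (Finset.univ.erase q₀)
    (fun q hq => by
      rw [Finset.mem_erase] at hq ⊢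
      refine ⟨fun h => hq.1 ?_, Finset.mem_univ _⟩
      have hx' : x⁻¹ • q₀ = q₀ := by
        rw [hq₀, MulAction.Quotient.smul_mk, QuotientGroup.eq, smul_eq_mul, mul_one, mul_one, inv_inv]
        exact le_normalizer hxP
      rw [← inv_smul_smul x q, h, hx'])
    (fun q hq i hi hin h => by
      rw [hiter] at h
      obtain ⟨g, rfl⟩ := QuotientGroup.mk_surjective q
      rw [MulAction.Quotient.smul_mk, QuotientGroup.eq, smul_eq_mul] at h
      have hgN : g ∉ N := fun hg => (Finset.mem_erase.mp hq).1 (QuotientGroup.eq.mpr (by simpa using hg))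
      set z := g⁻¹ * x ^ i * g with hz
      have hzN : z ∈ N := by
        have := inv_mem h
        simpa [hz, mul_assoc] using this
      have hzP : z ∈ (P : Subgroup G) := mem_sylow_of_pow hzN (a := n) (by
        have e : z = g⁻¹ * x ^ i * g⁻¹⁻¹ := by rw [hz, inv_inv]
        rw [e, conj_pow, ← pow_mul, mul_comm, pow_mul, ← hox, pow_orderOf_eq_one, one_pow, mul_one,
          mul_inv_cancel])
      have hQ : MulAut.conj g • P ≠ P := fun e => hgN (Sylow.smul_eq_iff_mem_normalizer.mp e)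
      have hmem : x ^ i ∈ ((MulAut.conj g • P : Sylow p G) : Subgroup G) := by
        rw [Sylow.pointwise_smul_def]
        have h1 := Subgroup.smul_mem_pointwise_smul z (MulAut.conj g) _ hzP
        rwa [MulAut.smul_def, MulAut.conj_apply, hz, show g * (g⁻¹ * x ^ i * g) * g⁻¹ = x ^ i by group] at h1
      have h1 : x ^ i ∈ (P : Subgroup G) ⊓ ((MulAut.conj g • P : Sylow p G) : Subgroup G) :=
        ⟨pow_mem hxP i, hmem⟩
      rw [hTI _ hQ, mem_bot] at h1
      have := Nat.le_of_dvd hi (orderOf_dvd_of_pow_eq_one h1)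
      rw [hox] at this
      omega)
  have hTeq : T = θ Y + ∑ i ∈ Finset.range (p ^ n), A ^ i * φ * ρ x⁻¹ ^ i := by
    rw [hT, ← Finset.add_sum_erase _ _ (Finset.mem_univ q₀), hφ, hq₀, hfmk]
    simp [c]
  by_contra hlt
  have hDN : e < p ^ n - D := by omega
  have htr := range_trace_le (p := p) (hone x) (hone' x) hAN htD φ
  rw [← hA, ← ht] at htr
  have hTzero : T = 0 := by
    let K : Subrepresentation ρ := ⟨LinearMap.ker T, fun g v hv => by
      rw [LinearMap.mem_ker] at hv ⊢
      rw [← Module.End.mul_apply, hTc, Module.End.mul_apply, hv, map_zero]⟩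
    haveI : IsSimpleOrder (Subrepresentation ρ) := hirr
    have hsub : LinearMap.range T ≤ LinearMap.range t := by
      rintro _ ⟨v, rfl⟩
      rw [hTeq, LinearMap.add_apply]
      refine add_mem ?_ ?_
      · rw [hθu]
        obtain ⟨e', he'⟩ : ∃ e', e = e' + 1 := ⟨e - 1, by omega⟩
        rw [he', pow_succ', Module.End.mul_apply, Module.End.mul_apply]
        exact LinearMap.mem_range_self _ _
      · obtain ⟨w, hw⟩ := htr (LinearMap.mem_range_self _ v)
        rw [← hw, show p ^ n - D = (p ^ n - D - 1) + 1 by omega, pow_succ', Module.End.mul_apply]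
        exact LinearMap.mem_range_self _ _
    rcases eq_bot_or_eq_top K with hK | hK
    · exfalso
      have hker : LinearMap.ker T = ⊥ := congrArg Subrepresentation.toSubmodule hK
      have hsurj := LinearMap.range_eq_top.mpr (LinearMap.surjective_of_injective (LinearMap.ker_eq_bot.mp hker))
      rw [hsurj, top_le_iff, LinearMap.range_eq_top] at hsub
      have hs : Function.Surjective (t ^ D) := by
        rw [Module.End.coe_pow]; exact hsub.iterate D
      rw [htD] at hs
      obtain ⟨v, hv⟩ := exists_ne (0 : V)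
      obtain ⟨w, hw⟩ := hs v
      exact hv (by simpa using hw.symm)
    · exact LinearMap.ker_eq_top.mp (congrArg Subrepresentation.toSubmodule hK)
  have hle : LinearMap.range (t ^ e) ≤ LinearMap.range (t ^ (e + 1)) := by
    rintro _ ⟨v, rfl⟩
    obtain ⟨u', hu'⟩ := hu
    have hmem : θ Y (u'⁻¹.1 v) ∈ LinearMap.range (t ^ (p ^ n - D)) := by
      have hθ : θ Y = -∑ i ∈ Finset.range (p ^ n), A ^ i * φ * ρ x⁻¹ ^ i :=
        eq_neg_of_add_eq_zero_left (hTeq.symm.trans hTzero)
      rw [hθ, LinearMap.neg_apply]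
      exact neg_mem (htr (LinearMap.mem_range_self _ _))
    rw [hθu, ← hu', ← Module.End.mul_apply, mul_assoc, Units.mul_inv, mul_one] at hmem
    obtain ⟨w, hw⟩ := hmem
    rw [← hw, show p ^ n - D = (e + 1) + (p ^ n - D - (e + 1)) by omega, pow_add (n := p ^ n - D - (e + 1)),
      Module.End.mul_apply]
    exact LinearMap.mem_range_self _ _
  have hiter' : ∀ k, LinearMap.range (t ^ e) ≤ LinearMap.range (t ^ (e + k)) := fun k => by
    induction k with
    | zero => exact le_refl _
    | succ k ih =>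
      rintro _ ⟨v, rfl⟩
      obtain ⟨w, hw⟩ := ih (LinearMap.mem_range_self _ v)
      obtain ⟨w', hw'⟩ := hle (LinearMap.mem_range_self _ w)
      refine ⟨w', ?_⟩
      rw [← hw, show e + (k + 1) = k + (e + 1) by omega, pow_add, Module.End.mul_apply, hw', ← Module.End.mul_apply,
        ← pow_add, add_comm k e]
  have hte : t ^ e = 0 := LinearMap.ext fun v => by
    obtain ⟨w, hw⟩ := hiter' D (LinearMap.mem_range_self _ v)
    rw [← hw, pow_add, htD]
    simp
  have hDe : D ≤ e := Nat.find_min' hnil hte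
  have hpn : p ≤ p ^ (n - 1) := Nat.le_self_pow (by omega) p
  omega

end Cfsg.Lib.Blocks.TICyclic
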